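import Cfsg.Agent.Lib.Helper14.SU5.Defs

set_option autoImplicit false

namespace Cfsg.Agent.Lib.Helper14.SU5

open Cfsg Cfsg.Geo Cfsg.Agent.Lib.Helper32.AschU
open Cfsg.Agent.Lib.Helper43.TT54 (Q4)
open scoped MatrixGroups Matrix

variable {F : Type*} [Field F]

theorem ex11 [Fintype F] (hF : Fintype.card F = 2 ^ 2) (K : Subalgebra F (M5 F))
    (hK : IsFieldSubalgebra 5 K) : ∃ y : GL (Fin 5) F, (y : M5 F) ∈ K ∧ orderOf y = 11 := by
  classical
  have hfield : IsField K := by
    refine ⟨⟨0, 1, ?_⟩, ?_, ?_⟩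
    · intro h
      have h1 := congrArg Subtype.val h
      simp at h1
    · intro x y
      exact Subtype.ext (hK.comm x.1 x.2 y.1 y.2)
    · intro a ha
      obtain ⟨y, hy, hxy⟩ := hK.inv a.1 a.2 (fun h => ha (Subtype.ext h))
      exact ⟨⟨y, hy⟩, Subtype.ext hxy⟩
  let _ : Field K := hfield.toField
  have hcard : Nat.card K = 4 ^ 5 := by
    rw [Module.natCard_eq_pow_finrank (K := F) (V := K), hK.finrank_eq, Nat.card_eq_fintype_card, hF]
    norm_num
  have hU : Nat.card Kˣ = 1023 := by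
    rw [Nat.card_units, hcard]
    norm_num
  have : Fact (Nat.Prime 11) := ⟨by norm_num⟩
  obtain ⟨x, hx⟩ := exists_prime_orderOf_dvd_card' (G := Kˣ) 11 (by rw [hU]; norm_num)
  refine ⟨Units.map (K.val : K →* M5 F) x, ?_, ?_⟩
  · exact (x : K).2
  · rw [orderOf_injective _ (Units.map_injective Subtype.val_injective), hx]

end Cfsg.Agent.Lib.Helper14.SU5
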