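import Cfsg.Agent.Lib.Helper14.SU5.Defs
import Cfsg.Agent.Lib.Helper14.SU5.EX11
import Cfsg.Agent.Lib.Helper14.SU5.SYL
import Cfsg.Agent.Lib.Helper14.SU5.REL

set_option autoImplicit false

namespace Cfsg.Agent.Lib.Helper14.SU5

open Cfsg Cfsg.Geo Cfsg.Agent.Lib.Helper32.AschU
open Cfsg.Agent.Lib.Helper43.TT54 (Q4)
open scoped MatrixGroups Matrix

variable {F : Type*} [Field F]

theorem exy [Fintype F] (hF : Fintype.card F = 2 ^ 2) (e : Q4 ≃+* F) (K : Subalgebra F (M5 F))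
    (hK : IsFieldSubalgebra 5 K) : ∃ y g : GL (Fin 5) F, (y : M5 F) ∈ K ∧ g * y * g⁻¹ = A e := by
  obtain ⟨y0, hy0K, hy0⟩ := ex11 hF K hK
  have : Fact (Nat.Prime 11) := ⟨by norm_num⟩
  have hA : orderOf (A e) = 11 := orderOf_eq_prime (A_pow e) (A_ne e)
  obtain ⟨g, -, j, hg⟩ := syl hF ⊤ (A e) y0 (Subgroup.mem_top _) (Subgroup.mem_top _) hA hy0
  refine ⟨y0 ^ j, g⁻¹, ?_, ?_⟩
  · rw [Units.val_pow_eq_pow_val]
    exact K.pow_mem hy0K j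
  · rw [← hg]
    group

end Cfsg.Agent.Lib.Helper14.SU5
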