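import Cfsg.Agent.Lib.Helper14.SU5.Defs

set_option autoImplicit false

namespace Cfsg.Agent.Lib.Helper14.SU5

open Cfsg Cfsg.Geo Cfsg.Agent.Lib.Helper32.AschU
open Cfsg.Agent.Lib.Helper43.TT54 (Q4)
open scoped MatrixGroups Matrix

variable {F : Type*} [Field F]

theorem root11 (K : Subalgebra F (M5 F)) (hK : IsFieldSubalgebra 5 K) (y z : GL (Fin 5) F)
    (hy : (y : M5 F) ∈ K) (hz : (z : M5 F) ∈ K) (hy11 : orderOf y = 11) (hz11 : z ^ 11 = 1) :
    ∃ i : ℕ, z = y ^ i := by
  letI instC : CommRing K :=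
    { (inferInstance : Ring K) with
      mul_comm := fun a b => Subtype.ext (hK.comm a.1 a.2 b.1 b.2) }
  haveI : IsDomain K := by
    haveI : Nontrivial K := inferInstance
    haveI : NoZeroDivisors K := by
      refine ⟨?_⟩
      intro a b hab
      by_cases ha : a = 0
      · exact Or.inl ha
      · right
        obtain ⟨c, hc, hac⟩ := hK.inv a.1 a.2 (fun h => ha (Subtype.ext h))
        have hca : c * a.1 = 1 := by rw [hK.comm c hc a.1 a.2]; exact hac
        have hab' : a.1 * b.1 = 0 := congrArg Subtype.val hab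
        apply Subtype.ext
        calc b.1 = (c * a.1) * b.1 := by rw [hca, one_mul]
          _ = c * (a.1 * b.1) := by rw [mul_assoc]
          _ = 0 := by rw [hab', mul_zero]
    exact NoZeroDivisors.to_isDomain K
  have hord : orderOf (⟨(y : M5 F), hy⟩ : K) = 11 := by
    rw [← hy11, ← orderOf_units (y := y)]
    exact orderOf_injective (K.val : K →* M5 F) Subtype.val_injective ⟨(y : M5 F), hy⟩ |>.symm
  have hprim : IsPrimitiveRoot (⟨(y : M5 F), hy⟩ : K) 11 := by
    rw [← hord]
    exact IsPrimitiveRoot.orderOf _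
  have hz' : (⟨(z : M5 F), hz⟩ : K) ^ 11 = 1 := by
    apply Subtype.ext
    have := congrArg (fun u : GL (Fin 5) F => (u : M5 F)) hz11
    simpa using this
  obtain ⟨i, _, hi⟩ := hprim.eq_pow_of_pow_eq_one hz'
  refine ⟨i, ?_⟩
  apply Units.ext
  have := congrArg Subtype.val hi
  simpa using this.symm

end Cfsg.Agent.Lib.Helper14.SU5
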